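import Mathlib

/-!
`H₁(C ⊗ P) = H₁(C ⊗ G)` for a free resolution `P` of `G` and `C₀` free.
-/

set_option autoImplicit false
set_option backward.isDefEq.respectTransparency false
set_option maxHeartbeats 1000000
universe v
open CategoryTheory CategoryTheory.Limits MonoidalCategory HomologicalComplex

namespace Groth.Agent.BiextLib

variable {R : Type v} [CommRing R] (C : ChainComplex (ModuleCat.{v} R) ℕ)

/-- the inclusion of a summand -/
noncomputable abbrev inj (Q : ChainComplex (ModuleCat.{v} R) ℕ) (a b n : ℕ) (h : a + b = n) :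
    C.X a ⊗ Q.X b ⟶ (C ⊗ Q).X n :=
  HomologicalComplex.ιTensorObj C Q a b n h

/-- the projection onto a summand -/
noncomputable def prj (Q : ChainComplex (ModuleCat.{v} R) ℕ) (a b n : ℕ) :
    (C ⊗ Q).X n ⟶ C.X a ⊗ Q.X b :=
  mapBifunctorDesc fun a' b' _ =>
    if h : a' = a ∧ b' = b then eqToHom (by rw [h.1, h.2]; rfl) else 0

theorem inj_prj_self (Q : ChainComplex (ModuleCat.{v} R) ℕ) (a b n : ℕ) (h : a + b = n) :
    inj C Q a b n h ≫ prj C Q a b n = 𝟙 _ := by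
  refine (ι_mapBifunctorDesc _ a b h).trans ?_
  rw [dif_pos ⟨rfl, rfl⟩]
  rfl

theorem inj_prj_ne (Q : ChainComplex (ModuleCat.{v} R) ℕ) (a b a' b' n : ℕ) (h : a' + b' = n)
    (hne : ¬(a' = a ∧ b' = b)) : inj C Q a' b' n h ≫ prj C Q a b n = 0 := by
  refine (ι_mapBifunctorDesc _ a' b' h).trans ?_
  rw [dif_neg hne]

theorem decomp₁ (Q : ChainComplex (ModuleCat.{v} R) ℕ) :
    𝟙 ((C ⊗ Q).X 1) = prj C Q 0 1 1 ≫ inj C Q 0 1 1 rfl + prj C Q 1 0 1 ≫ inj C Q 1 0 1 rfl := by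
  refine mapBifunctor.hom_ext fun a b hab => ?_
  have h : a + b = 1 := hab
  change inj C Q a b 1 h ≫ _ = inj C Q a b 1 h ≫ _
  rw [Category.comp_id, Preadditive.comp_add, ← Category.assoc, ← Category.assoc]
  rcases Nat.eq_zero_or_pos a with rfl | ha
  · obtain rfl : b = 1 := by omega
    rw [inj_prj_self, inj_prj_ne C Q 1 0 0 1 1 rfl (by omega), Category.id_comp, zero_comp, add_zero]
  · obtain rfl : a = 1 := by omega
    obtain rfl : b = 0 := by omega
    rw [inj_prj_self, inj_prj_ne C Q 0 1 1 0 1 rfl (by omega), Category.id_comp, zero_comp, zero_add]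

theorem decomp₀ (Q : ChainComplex (ModuleCat.{v} R) ℕ) :
    𝟙 ((C ⊗ Q).X 0) = prj C Q 0 0 0 ≫ inj C Q 0 0 0 rfl := by
  refine mapBifunctor.hom_ext fun a b hab => ?_
  have h : a + b = 0 := hab
  obtain ⟨rfl, rfl⟩ : a = 0 ∧ b = 0 := by omega
  change inj C Q 0 0 0 h ≫ _ = inj C Q 0 0 0 h ≫ _
  rw [Category.comp_id, ← Category.assoc, inj_prj_self, Category.id_comp]

theorem inj_d_left (Q : ChainComplex (ModuleCat.{v} R) ℕ) (a n : ℕ) (h : a + 1 + 0 = n + 1) (h' : a + 0 = n) :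
    inj C Q (a + 1) 0 (n + 1) h ≫ (C ⊗ Q).d (n + 1) n = (C.d (a + 1) a ▷ Q.X 0) ≫ inj C Q a 0 n h' := by
  change HomologicalComplex.ιMapBifunctor C Q (curriedTensor _) (ComplexShape.down ℕ) (a + 1) 0 (n + 1) h ≫
    (HomologicalComplex.mapBifunctor C Q (curriedTensor _) (ComplexShape.down ℕ)).d (n + 1) n = _
  rw [mapBifunctor.d_eq, Preadditive.comp_add, mapBifunctor.ι_D₁, mapBifunctor.ι_D₂,
    mapBifunctor.d₁_eq _ _ _ _ (show (ComplexShape.down ℕ).Rel (a + 1) a from rfl) 0 n h',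
    mapBifunctor.d₂_eq_zero _ _ _ _ (a + 1) 0 n (by simp)]
  simp

theorem inj_d_right (Q : ChainComplex (ModuleCat.{v} R) ℕ) (b n : ℕ) (h : 0 + (b + 1) = n + 1) (h' : 0 + b = n) :
    inj C Q 0 (b + 1) (n + 1) h ≫ (C ⊗ Q).d (n + 1) n = (C.X 0 ◁ Q.d (b + 1) b) ≫ inj C Q 0 b n h' := by
  change HomologicalComplex.ιMapBifunctor C Q (curriedTensor _) (ComplexShape.down ℕ) 0 (b + 1) (n + 1) h ≫
    (HomologicalComplex.mapBifunctor C Q (curriedTensor _) (ComplexShape.down ℕ)).d (n + 1) n = _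
  rw [mapBifunctor.d_eq, Preadditive.comp_add, mapBifunctor.ι_D₁, mapBifunctor.ι_D₂,
    mapBifunctor.d₂_eq _ _ _ _ 0 (show (ComplexShape.down ℕ).Rel (b + 1) b from rfl) n h',
    mapBifunctor.d₁_eq_zero _ _ _ _ 0 (b + 1) n (by simp)]
  simp

theorem inj_d_mixed (Q : ChainComplex (ModuleCat.{v} R) ℕ) :
    inj C Q 1 1 2 rfl ≫ (C ⊗ Q).d 2 1 =
      (C.d 1 0 ▷ Q.X 1) ≫ inj C Q 0 1 1 rfl - (C.X 1 ◁ Q.d 1 0) ≫ inj C Q 1 0 1 rfl := by
  change HomologicalComplex.ιMapBifunctor C Q (curriedTensor _) (ComplexShape.down ℕ) 1 1 2 rfl ≫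
    (HomologicalComplex.mapBifunctor C Q (curriedTensor _) (ComplexShape.down ℕ)).d 2 1 = _
  rw [mapBifunctor.d_eq, Preadditive.comp_add, mapBifunctor.ι_D₁, mapBifunctor.ι_D₂,
    mapBifunctor.d₁_eq _ _ _ _ (show (ComplexShape.down ℕ).Rel 1 0 from rfl) 1 1 rfl,
    mapBifunctor.d₂_eq _ _ _ _ 1 (show (ComplexShape.down ℕ).Rel 1 0 from rfl) 1 rfl]
  simp [sub_eq_add_neg]

variable (P : ChainComplex (ModuleCat.{v} R) ℕ) {G : ModuleCat.{v} R}
  (π : P ⟶ (ChainComplex.single₀ (ModuleCat.{v} R)).obj G)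

theorem inj_map (a b n : ℕ) (h : a + b = n) :
    inj C P a b n h ≫ (C ◁ π).f n = (C.X a ◁ π.f b) ≫ inj C _ a b n h := by
  refine (ι_mapBifunctorMap (𝟙 C) π (curriedTensor _) (ComplexShape.down ℕ) a b n h).trans ?_
  simp

theorem pos_isZero (a b : ℕ) :
    IsZero (C.X a ⊗ ((ChainComplex.single₀ (ModuleCat.{v} R)).obj G).X (b + 1)) :=
  (tensorLeft (C.X a)).map_isZero (HomologicalComplex.isZero_single_obj_X _ 0 _ _ (by omega))

theorem map_epi (hπ : Function.Surjective (π.f 0).hom) (n : ℕ) : Epi ((C ◁ π).f n) := by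
  refine ⟨fun {Z} g g' hgg => mapBifunctor.hom_ext fun a b hab => ?_⟩
  have h : a + b = n := hab
  change inj C _ a b n h ≫ g = inj C _ a b n h ≫ g'
  rcases Nat.eq_zero_or_pos b with rfl | hb
  · haveI : Epi (C.X a ◁ π.f 0) := (ModuleCat.epi_iff_surjective _).2
      (LinearMap.lTensor_surjective (C.X a) hπ)
    rw [← cancel_epi (C.X a ◁ π.f 0), ← Category.assoc, ← Category.assoc, ← inj_map C P π a 0 n h,
      Category.assoc, Category.assoc, hgg]
  · obtain ⟨b, rfl⟩ := Nat.exists_eq_add_of_le' (by omega : 1 ≤ b)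
    exact (pos_isZero C a b).eq_of_src _ _

theorem apply_comp {X Y Z : ModuleCat.{v} R} (f : X ⟶ Y) (g : Y ⟶ Z) (h : X ⟶ Z) (e : f ≫ g = h) (x : X) :
    g.hom (f.hom x) = h.hom x := by
  subst e; rfl

theorem isIso_H₁ [Module.Free R (C.X 0)] [∀ q, Module.Free R (P.X q)] [QuasiIso π] :
    IsIso (homologyMap (C ◁ π) 1) := by
  haveI : ∀ q, Projective (P.X q) := fun q => (IsProjective.iff_projective (P.X q)).1 inferInstance
  let res : ProjectiveResolution G := { complex := P, π := π }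
  have hπ : Function.Surjective (π.f 0).hom := (ModuleCat.epi_iff_surjective _).1 (epi_of_isColimit_cofork res.isColimitCokernelCofork)
  have ex0 : Function.Exact (P.d 1 0).hom (π.f 0).hom :=
    (ShortComplex.ShortExact.moduleCat_exact_iff_function_exact _).1 res.exact₀
  have ex1 : Function.Exact (P.d 2 1).hom (P.d 1 0).hom :=
    (ShortComplex.ShortExact.moduleCat_exact_iff_function_exact _).1
      (((HomologicalComplex.exactAt_iff' _ 2 1 0 (by simp) (by simp)).1 (res.complex_exactAt_succ 0)))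
  let S := (ChainComplex.single₀ (ModuleCat.{v} R)).obj G
  have hsurj : ∀ n, Function.Surjective ((C ◁ π).f n).hom := fun n =>
    (ModuleCat.epi_iff_surjective _).1 (map_epi C P π hπ n)
  have hz01 : ∀ z, ((C ◁ π).f 1).hom ((inj C P 0 1 1 rfl).hom z) = 0 := fun z => by
    rw [apply_comp _ _ _ (inj_map C P π 0 1 1 rfl) z, (pos_isZero C 0 0).eq_of_tgt (C.X 0 ◁ π.f 1) 0]
    simp
  have comm : ∀ (i j : ℕ) (x : (C ⊗ P).X i),
      ((C ◁ π).f j).hom (((C ⊗ P).d i j).hom x) = ((C ⊗ S).d i j).hom (((C ◁ π).f i).hom x) := fun i j x =>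
    (apply_comp ((C ◁ π).f i) _ _ ((C ◁ π).comm i j) x).symm
  rw [ConcreteCategory.isIso_iff_bijective]
  have hs : ∀ (K : ChainComplex (ModuleCat.{v} R) ℕ), Function.Surjective (K.homologyπ 1).hom := fun K =>
    (ModuleCat.epi_iff_surjective _).1 inferInstance
  have hi : ∀ (K : ChainComplex (ModuleCat.{v} R) ℕ), Function.Injective (K.iCycles 1).hom := fun K =>
    (ModuleCat.mono_iff_injective _).1 inferInstance
  have hker : ∀ (K : ChainComplex (ModuleCat.{v} R) ℕ), Function.Exact (K.iCycles 1).hom (K.d 1 0).hom := fun K =>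
    (ShortComplex.ShortExact.moduleCat_exact_iff_function_exact _).1 (ShortComplex.exact_of_f_is_kernel
      (ShortComplex.mk (K.iCycles 1) (K.d 1 0) (K.iCycles_d _ _)) (K.cyclesIsKernel 1 0 (by simp)))
  have hcok : ∀ (K : ChainComplex (ModuleCat.{v} R) ℕ), Function.Exact (K.toCycles 2 1).hom (K.homologyπ 1).hom :=
    fun K => (ShortComplex.ShortExact.moduleCat_exact_iff_function_exact _).1 (ShortComplex.exact_of_g_is_cokernel
      (ShortComplex.mk (K.toCycles 2 1) (K.homologyπ 1) (K.toCycles_comp_homologyπ _ _))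
      (K.homologyIsCokernel 2 1 (by simp)))
  have hnat : ∀ z, (homologyMap (C ◁ π) 1).hom (((C ⊗ P).homologyπ 1).hom z) =
      ((C ⊗ S).homologyπ 1).hom ((cyclesMap (C ◁ π) 1).hom z) := fun z =>
    (apply_comp _ _ _ (homologyπ_naturality (C ◁ π) 1) z).trans rfl
  have hcyc : ∀ z, ((C ⊗ S).iCycles 1).hom ((cyclesMap (C ◁ π) 1).hom z) =
      ((C ◁ π).f 1).hom (((C ⊗ P).iCycles 1).hom z) := fun z =>
    (apply_comp _ _ _ (cyclesMap_i (C ◁ π) 1) z).trans rfl
  constructor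
  · refine (injective_iff_map_eq_zero (homologyMap (C ◁ π) 1).hom).2 fun x hx => ?_
    obtain ⟨z, rfl⟩ := hs _ x
    rw [hnat] at hx
    obtain ⟨w, hw⟩ := (hcok _ _).1 hx
    obtain ⟨w', rfl⟩ := hsurj 2 w
    set y := ((C ⊗ P).iCycles 1).hom z - ((C ⊗ P).d 2 1).hom w' with hy
    have hfy : ((C ◁ π).f 1).hom y = 0 := by
      rw [hy, map_sub, comm, ← hcyc, sub_eq_zero, ← hw]
      exact apply_comp _ _ _ ((C ⊗ S).toCycles_i 2 1) _
    have hdy : ((C ⊗ P).d 1 0).hom y = 0 := by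
      rw [hy, map_sub, apply_comp _ _ _ ((C ⊗ P).iCycles_d 1 0) z,
        apply_comp _ _ _ ((C ⊗ P).d_comp_d 2 1 0) w']
      simp
    set a := (prj C P 0 1 1).hom y
    set b := (prj C P 1 0 1).hom y
    have hab : y = (inj C P 0 1 1 rfl).hom a + (inj C P 1 0 1 rfl).hom b :=
      LinearMap.congr_fun (congrArg ModuleCat.Hom.hom (decomp₁ C P)) y
    have hb : (π.f 0).hom.lTensor (C.X 1) b = 0 := by
      have h1 : (inj C S 1 0 1 rfl).hom ((C.X 1 ◁ π.f 0).hom b) = 0 := by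
        rw [hab, map_add, hz01, zero_add, apply_comp _ _ _ (inj_map C P π 1 0 1 rfl) b] at hfy
        exact hfy
      have h2 := congrArg (prj C S 1 0 1).hom h1
      rw [apply_comp _ _ _ (inj_prj_self C S 1 0 1 rfl), map_zero] at h2
      exact h2
    obtain ⟨v, hv⟩ := (lTensor_exact (C.X 1) ex0 hπ b).1 hb
    set y' := y + ((C ⊗ P).d 2 1).hom ((inj C P 1 1 2 rfl).hom v) with hy'
    have hy'eq : y' = (inj C P 0 1 1 rfl).hom (a + (C.d 1 0 ▷ P.X 1).hom v) := by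
      rw [hy', apply_comp _ _ _ (inj_d_mixed C P) v, hab]
      have hv' : (C.X 1 ◁ P.d 1 0).hom v = b := hv
      change _ + ((inj C P 0 1 1 rfl).hom ((C.d 1 0 ▷ P.X 1).hom v) -
        (inj C P 1 0 1 rfl).hom ((C.X 1 ◁ P.d 1 0).hom v)) = _
      rw [hv', map_add]
      abel
    have hd' : ((C ⊗ P).d 1 0).hom y' = 0 := by
      rw [hy', map_add, hdy, apply_comp _ _ _ ((C ⊗ P).d_comp_d 2 1 0), zero_add]
      simp
    have ha : (P.d 1 0).hom.lTensor (C.X 0) (a + (C.d 1 0 ▷ P.X 1).hom v) = 0 := by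
      rw [hy'eq, apply_comp _ _ _ (inj_d_right C P 0 0 rfl rfl)] at hd'
      have h2 := congrArg (prj C P 0 0 0).hom hd'
      rw [map_zero] at h2
      rw [← h2]
      exact (apply_comp _ _ _ (inj_prj_self C P 0 0 0 rfl) _).symm
    obtain ⟨q, hq⟩ := (Module.Flat.lTensor_exact (C.X 0) ex1 _).1 ha
    have hq' : ((C ⊗ P).d 2 1).hom ((inj C P 0 2 2 rfl).hom q) = y' := by
      rw [apply_comp _ _ _ (inj_d_right C P 1 1 rfl rfl) q, hy'eq, ← hq]
      rfl
    refine (hcok _ _).2 ⟨w' + (inj C P 0 2 2 rfl).hom q - (inj C P 1 1 2 rfl).hom v, hi _ ?_⟩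
    rw [apply_comp _ _ _ ((C ⊗ P).toCycles_i 2 1), map_sub, map_add, hq', hy', hy]
    abel
  · intro x
    obtain ⟨z, rfl⟩ := hs _ x
    obtain ⟨y, hy⟩ := hsurj 1 (((C ⊗ S).iCycles 1).hom z)
    set c := (prj C P 0 0 0).hom (((C ⊗ P).d 1 0).hom y)
    have hc0 : ((C ⊗ P).d 1 0).hom y = (inj C P 0 0 0 rfl).hom c :=
      LinearMap.congr_fun (congrArg ModuleCat.Hom.hom (decomp₀ C P)) _
    have hc : (π.f 0).hom.lTensor (C.X 0) c = 0 := by
      have h1 : ((C ◁ π).f 0).hom (((C ⊗ P).d 1 0).hom y) = 0 := by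
        rw [comm, hy, apply_comp _ _ _ ((C ⊗ S).iCycles_d 1 0)]
        simp
      rw [hc0, apply_comp _ _ _ (inj_map C P π 0 0 0 rfl) c] at h1
      have h2 := congrArg (prj C S 0 0 0).hom h1
      rw [map_zero] at h2
      rw [← h2]
      exact (apply_comp _ _ _ (inj_prj_self C S 0 0 0 rfl) _).symm
    obtain ⟨q, hq⟩ := (lTensor_exact (C.X 0) ex0 hπ c).1 hc
    have hd' : ((C ⊗ P).d 1 0).hom (y - (inj C P 0 1 1 rfl).hom q) = 0 := by
      rw [map_sub, hc0, apply_comp _ _ _ (inj_d_right C P 0 0 rfl rfl) q, sub_eq_zero, ← hq]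
      rfl
    obtain ⟨z', hz'⟩ := (hker _ _).1 hd'
    refine ⟨((C ⊗ P).homologyπ 1).hom z', (hnat z').trans (congrArg _ (hi _ ?_))⟩
    rw [hcyc, hz', map_sub, hz01, sub_zero, hy]

end Groth.Agent.BiextLib
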