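import Groth.Prelude.Def_W4c3biextchowCx
import Mathlib

/-!
Two retractions of a quasi-isomorphic degreewise split subcomplex give isomorphic functors of groupoids.
-/

set_option autoImplicit false
set_option backward.isDefEq.respectTransparency false
universe v
open CategoryTheory W4c3biextchow

namespace Groth.Agent.BiextLib

variable {R : Type} [CommRing R]

section Homology

variable {X Y : ChainComplex (ModuleCat.{v} R) ℕ} (f : X ⟶ Y)

theorem comp_apply' {U V W : ModuleCat.{v} R} (a : U ⟶ V) (b : V ⟶ W) (c : U ⟶ W) (e : a ≫ b = c) (x : U) :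
    b.hom (a.hom x) = c.hom x := by
  subst e; rfl

theorem exists_of_cycle [QuasiIso f] (n : ℕ) (y : Y.X n) (hy : ∀ j, (Y.d n j).hom y = 0) :
    ∃ (x : X.X n) (w : Y.X (n + 1)), (∀ j, (X.d n j).hom x = 0) ∧ y = (f.f n).hom x + (Y.d (n + 1) n).hom w := by
  let j := (ComplexShape.down ℕ).next n
  have hk := (ShortComplex.ShortExact.moduleCat_exact_iff_function_exact _).1 (ShortComplex.exact_of_f_is_kernel
      (ShortComplex.mk (Y.iCycles n) (Y.d n j) (Y.iCycles_d _ _)) (Y.cyclesIsKernel n j rfl))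
  obtain ⟨z, hz⟩ := (hk y).1 (hy j)
  obtain ⟨h, hh⟩ := ((ConcreteCategory.isIso_iff_bijective (HomologicalComplex.homologyMap f n)).1
    inferInstance).2 ((Y.homologyπ n).hom z)
  obtain ⟨z', rfl⟩ := (ModuleCat.epi_iff_surjective (X.homologyπ n)).1 inferInstance h
  have e1 : (Y.homologyπ n).hom (z - (HomologicalComplex.cyclesMap f n).hom z') = 0 := by
    rw [map_sub, sub_eq_zero, ← hh]
    exact comp_apply' _ _ _ (HomologicalComplex.homologyπ_naturality f n) z'
  obtain ⟨w, hw⟩ := ((ShortComplex.ShortExact.moduleCat_exact_iff_function_exact _).1 (ShortComplex.exact_of_g_is_cokernel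
      (ShortComplex.mk (Y.toCycles (n + 1) n) (Y.homologyπ n) (Y.toCycles_comp_homologyπ _ _))
      (Y.homologyIsCokernel (n + 1) n (by simp))) _).1 e1
  refine ⟨(X.iCycles n).hom z', w, fun j => ?_, ?_⟩
  · exact (comp_apply' _ _ _ (X.iCycles_d n j) z').trans (by simp)
  · have e2 := congrArg (Y.iCycles n).hom hw
    rw [comp_apply' _ _ _ (Y.toCycles_i (n + 1) n) w, map_sub,
      comp_apply' _ _ _ (HomologicalComplex.cyclesMap_i f n) z'] at e2
    change _ = (f.f n).hom ((X.iCycles n).hom z') + _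
    rw [e2, ← hz]
    simp

theorem exists_of_boundary [QuasiIso f] (n : ℕ) (x : X.X n) (hx : ∀ j, (X.d n j).hom x = 0) (w : Y.X (n + 1))
    (e : (f.f n).hom x = (Y.d (n + 1) n).hom w) : ∃ y : X.X (n + 1), (X.d (n + 1) n).hom y = x := by
  let j := (ComplexShape.down ℕ).next n
  have hk := (ShortComplex.ShortExact.moduleCat_exact_iff_function_exact _).1 (ShortComplex.exact_of_f_is_kernel
      (ShortComplex.mk (X.iCycles n) (X.d n j) (X.iCycles_d _ _)) (X.cyclesIsKernel n j rfl))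
  obtain ⟨z, rfl⟩ := (hk x).1 (hx j)
  have e1 : (HomologicalComplex.cyclesMap f n).hom z = (Y.toCycles (n + 1) n).hom w := by
    refine (ModuleCat.mono_iff_injective (Y.iCycles n)).1 inferInstance ?_
    exact (comp_apply' _ _ _ (HomologicalComplex.cyclesMap_i f n) z).trans
      (e.trans (comp_apply' _ _ _ (Y.toCycles_i (n + 1) n) w).symm)
  have e2 : (HomologicalComplex.homologyMap f n).hom ((X.homologyπ n).hom z) = 0 := by
    refine (comp_apply' _ _ _ (HomologicalComplex.homologyπ_naturality f n) z).trans ?_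
    show (Y.homologyπ n).hom ((HomologicalComplex.cyclesMap f n).hom z) = 0
    rw [e1, comp_apply' _ _ _ (Y.toCycles_comp_homologyπ (n + 1) n) w]
    simp
  have e3 : (X.homologyπ n).hom z = 0 := ((ConcreteCategory.isIso_iff_bijective (HomologicalComplex.homologyMap f n)).1
    inferInstance).1 (e2.trans (map_zero _).symm)
  obtain ⟨y, rfl⟩ := ((ShortComplex.ShortExact.moduleCat_exact_iff_function_exact _).1 (ShortComplex.exact_of_g_is_cokernel
      (ShortComplex.mk (X.toCycles (n + 1) n) (X.homologyπ n) (X.toCycles_comp_homologyπ _ _))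
      (X.homologyIsCokernel (n + 1) n (by simp))) _).1 e3
  exact ⟨y, (comp_apply' _ _ _ (X.toCycles_i (n + 1) n) y).symm⟩

end Homology

theorem exists_natIso (A' A B : ChainComplex (ModuleCat.{v} R) ℕ) (f : A' ⟶ A) (h' : A' ⟶ B)
    (hq : Module.Free R ((A.X 0) ⧸ LinearMap.range (f.f 0).hom)) [QuasiIso f] (g₁ g₂ : A ⟶ A')
    (h₁ : f ≫ g₁ = 𝟙 A') (h₂ : f ≫ g₂ = 𝟙 A') :
    ∃ N : W4c3biextchow.cxFunctor (g₁ ≫ h') ≅ W4c3biextchow.cxFunctor (g₂ ≫ h'),
      ∀ a : W4c3biextchow.Obj A',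
        (N.hom.app ((W4c3biextchow.cxFunctor f).obj a) : W4c3biextchow.Hom B _ _).cl = 0 := by
  let N₀ := LinearMap.range (f.f 0).hom
  let δ : A ⟶ A' := g₁ - g₂
  have hδf : ∀ n x, (δ.f n).hom ((f.f n).hom x) = 0 := fun n x => by
    have e1 : (g₁.f n).hom ((f.f n).hom x) = x :=
      (comp_apply' _ _ _ (HomologicalComplex.congr_hom h₁ n) x).trans rfl
    have e2 : (g₂.f n).hom ((f.f n).hom x) = x :=
      (comp_apply' _ _ _ (HomologicalComplex.congr_hom h₂ n) x).trans rfl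
    show (g₁.f n).hom ((f.f n).hom x) - (g₂.f n).hom ((f.f n).hom x) = 0
    rw [e1, e2, sub_self]
  have hd0 : ∀ (K : ChainComplex (ModuleCat.{v} R) ℕ) (j : ℕ) (x : K.X 0), (K.d 0 j).hom x = 0 := fun K j x => by
    rw [K.shape 0 j (by simp)]; rfl
  have hp : Function.Surjective (N₀.mkQ.comp (A.d 1 0).hom) := fun q => by
    obtain ⟨a, rfl⟩ := N₀.mkQ_surjective q
    obtain ⟨x, w, -, e⟩ := exists_of_cycle f 0 a (hd0 A · a)
    refine ⟨w, ((Submodule.Quotient.eq N₀).2 ⟨-x, ?_⟩)⟩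
    rw [e, map_neg]; abel
  haveI := hq
  obtain ⟨σ, hσ⟩ := Module.projective_lifting_property (N₀.mkQ.comp (A.d 1 0).hom) LinearMap.id hp
  let t : A.X 0 →ₗ[R] A.X 1 := σ.comp N₀.mkQ
  have ht : ∀ a, (A.d 1 0).hom (t a) - a ∈ N₀ := fun a =>
    (Submodule.Quotient.eq N₀).1 (LinearMap.congr_fun hσ (N₀.mkQ a))
  let s : A.X 0 →ₗ[R] B.X 1 := (h'.f 1).hom.comp ((δ.f 1).hom.comp t)
  have hs0 : ∀ x, s ((f.f 0).hom x) = 0 := fun x => by
    have : N₀.mkQ ((f.f 0).hom x) = 0 := (Submodule.Quotient.mk_eq_zero N₀).2 ⟨x, rfl⟩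
    simp only [s, t, LinearMap.comp_apply, this, map_zero]
  have hds : ∀ a, (B.d 1 0).hom (s a) = ((g₁ ≫ h').f 0).hom a - ((g₂ ≫ h').f 0).hom a := fun a => by
    obtain ⟨x, hx⟩ := ht a
    have e : (A.d 1 0).hom (t a) = a + (f.f 0).hom x := by rw [hx]; abel
    have e2 : (B.d 1 0).hom (s a) = ((δ ≫ h').f 0).hom ((A.d 1 0).hom (t a)) :=
      (comp_apply' ((δ ≫ h').f 1) (B.d 1 0) _ ((δ ≫ h').comm 1 0) (t a)).trans rfl
    rw [e2, e, map_add, show ((δ ≫ h').f 0).hom ((f.f 0).hom x) =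
      (h'.f 0).hom ((δ.f 0).hom ((f.f 0).hom x)) from rfl, hδf, map_zero, add_zero]
    show (h'.f 0).hom ((g₁.f 0).hom a - (g₂.f 0).hom a) = _
    rw [map_sub]
    rfl
  have hnat : ∀ x : A.X 1, (Submodule.Quotient.mk (s ((A.d 1 0).hom x)) : Q1 B) =
      Submodule.Quotient.mk (((g₁ ≫ h').f 1).hom x - ((g₂ ≫ h').f 1).hom x) := fun x => by
    obtain ⟨u, hu⟩ := ht ((A.d 1 0).hom x)
    have hxd : (f.f 0).hom (-u) = (A.d 1 0).hom (x - t ((A.d 1 0).hom x)) := by
      rw [map_sub, map_neg, hu]; abel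
    obtain ⟨y, hy⟩ := exists_of_boundary f 0 (-u) (hd0 A' · (-u)) _ hxd
    have hz : ∀ j, (A.d 1 j).hom (x - t ((A.d 1 0).hom x) - (f.f 1).hom y) = 0 := fun j => by
      by_cases hj : j = 0
      · subst hj
        rw [map_sub, ← hxd, comp_apply' _ _ _ (f.comm 1 0) y]
        show _ - (f.f 0).hom ((A'.d 1 0).hom y) = 0
        rw [hy, sub_self]
      · rw [A.shape 1 j (by simp; omega)]; rfl
    obtain ⟨z, w, -, e⟩ := exists_of_cycle f 1 _ hz
    rw [Submodule.Quotient.eq]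
    refine ⟨-((δ ≫ h').f 2).hom w, ?_⟩
    rw [map_neg, comp_apply' ((δ ≫ h').f 2) (B.d 2 1) _ ((δ ≫ h').comm 2 1) w]
    have e' : (A.d 2 1).hom w = x - t ((A.d 1 0).hom x) - (f.f 1).hom y - (f.f 1).hom z := by rw [e]; abel
    show -((h'.f 1).hom ((δ.f 1).hom ((A.d 2 1).hom w))) = _
    rw [e']
    simp only [map_sub, hδf, map_zero, sub_zero, neg_sub]
    exact congrArg₂ (· - ·) rfl (map_sub (h'.f 1).hom _ _)
  refine ⟨NatIso.ofComponents (fun a =>
    { hom := ⟨-Submodule.Quotient.mk (s a.pt), by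
        rw [map_neg, delta_mk, hds]; simp⟩
      inv := ⟨Submodule.Quotient.mk (s a.pt), by rw [delta_mk, hds]; rfl⟩
      hom_inv_id := W4c3biextchow.Hom.ext (by simp)
      inv_hom_id := W4c3biextchow.Hom.ext (by simp) }) ?_, fun a => ?_⟩
  · intro a b φ
    obtain ⟨cl, hcl⟩ := φ
    obtain ⟨x, rfl⟩ := Submodule.Quotient.mk_surjective _ cl
    refine W4c3biextchow.Hom.ext ?_
    simp only [comp_cl, cxFunctor_map_cl, q1Map_mk]
    have e : s ((A.d 1 0).hom x) = s b.pt - s a.pt := by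
      rw [← map_sub]; exact congrArg s ((delta_mk A x).symm.trans hcl)
    have e2 := hnat x
    rw [e, Submodule.Quotient.mk_sub, Submodule.Quotient.mk_sub] at e2
    rw [← sub_eq_zero] at e2 ⊢
    first
      | (rw [← e2]; abel1)
      | (rw [← neg_eq_zero, ← e2]; abel1)
  · show -(Submodule.Quotient.mk (s ((f.f 0).hom a.pt)) : Q1 B) = 0
    rw [hs0]
    simp

end Groth.Agent.BiextLib
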